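import Mathlib.RingTheory.Norm.Basic
import Mathlib.RingTheory.TensorProduct.IsBaseChangeFree
import Mathlib.RingTheory.IsTensorProduct

/-! The norm of a finite free algebra commutes with base change. -/

set_option autoImplicit false

universe u

namespace Groth.Agent.NormGm

variable (R R' S S' : Type u) [CommRing R] [CommRing R'] [CommRing S] [CommRing S'] [Algebra R R'] [Algebra R S]
  [Algebra R' S'] [Algebra S S'] [Algebra R S'] [IsScalarTower R R' S'] [IsScalarTower R S S']
  [Algebra.IsPushout R R' S S'] [Module.Free R S] [Module.Finite R S]

include R S in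
theorem free_finite_pushout : Module.Free R' S' ∧ Module.Finite R' S' :=
  let b := (Algebra.IsPushout.out (R := R) (S := R') (R' := S) (S' := S')).basis (Module.Free.chooseBasis R S)
  ⟨Module.Free.of_basis b, Module.Finite.of_basis b⟩

theorem norm_pushout (x : S) :
    Algebra.norm R' (algebraMap S S' x) = algebraMap R R' (Algebra.norm R x) := by
  classical
  let b := Module.Free.chooseBasis R S
  have h : IsBaseChange R' (IsScalarTower.toAlgHom R S S').toLinearMap := Algebra.IsPushout.out
  let b' := h.basis b
  have hb : Algebra.leftMulMatrix b' (algebraMap S S' x) = (Algebra.leftMulMatrix b x).map (algebraMap R R') := by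
    ext i j
    rw [Matrix.map_apply, Algebra.leftMulMatrix_eq_repr_mul, Algebra.leftMulMatrix_eq_repr_mul, h.basis_apply]
    show b'.repr (algebraMap S S' x * algebraMap S S' (b j)) i = _
    rw [← map_mul]
    exact h.basis_repr_comp_apply b (x * b j) i
  rw [Algebra.norm_eq_matrix_det b', Algebra.norm_eq_matrix_det b, hb]
  exact ((algebraMap R R').map_det _).symm

end Groth.Agent.NormGm
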